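import Cfsg.Agent.Mrg.Omega.NO3b.EndX.Def
import Cfsg.Agent.Mrg.Omega.NO3b.Closed.CountB
import Cfsg.Agent.Mrg.Omega.NO3b.Closed.Point


/-!
# The exact end: `Closed.Out e lam T₀` gives `Pnt` and `Lab`

`C := C_G(D)` acts by conjugation on `W := ⟨V^C⟩`.

* `Inst.grp h : CommGroup W`, `Inst.act h : MulDistribMulAction C W` : the instances (`W`, `C` subgroups of `G`);
  `Inst.coe_smul`;
* `cc D = C_G(D)`, `wd V D = cl V (C_G(D))`, `wgrp e`, `cact V D` : the same for these two;
* `sv_eq` : `C₊ = {c ∈ C | [c, v] ∈ D}` is the same for all good `v`; `inL_of_sv`;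
* **`pnt`**, **`lab`** : the two structures, for a good `v`: `P = sv D v`, `E = e.E v`, `L w = lw T D w = ⟨[w, T]⟩ ⊓ D`.
-/

set_option autoImplicit false

namespace Cfsg.Agent.Omega.NO3b.ExEnd

open Subgroup Cfsg Cfsg.Agent.ZN Cfsg.Agent.ZN.ChoiceBase Cfsg.Agent.ZN.ChoiceSit
open Cfsg.Agent.ClassTwoFusion.Quad Cfsg.Agent.Omega.ML.MinFrame
open Cfsg.Agent.Omega.NO3b.EZero Cfsg.Agent.Omega.NO3b.ClosedPt

universe u

variable {G : Type u} [Group G]

namespace Inst

/-- an abelian subgroup as a commutative group -/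
abbrev grp {W : Subgroup G} (h : ∀ a ∈ W, ∀ b ∈ W, a * b = b * a) : CommGroup W :=
  { (inferInstance : Group W) with mul_comm := fun a b => Subtype.ext (h a a.2 b b.2) }

/-- `C` acts on `W` by conjugation -/
abbrev act {C W : Subgroup G} (h : C ≤ normalizer (W : Set G)) : MulDistribMulAction C W where
  smul c w := ⟨(c : G) * w * (c : G)⁻¹, cj_mem h c.2 w.2⟩
  one_smul w := Subtype.ext (by
    change ((1 : C) : G) * (w : G) * ((1 : C) : G)⁻¹ = w
    simp)
  mul_smul a b w := Subtype.ext (by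
    change ((a * b : C) : G) * (w : G) * ((a * b : C) : G)⁻¹ = (a : G) * ((b : G) * w * (b : G)⁻¹) * (a : G)⁻¹
    simp [mul_assoc])
  smul_one a := Subtype.ext (by
    change (a : G) * ((1 : W) : G) * (a : G)⁻¹ = ((1 : W) : G)
    simp)
  smul_mul a x y := Subtype.ext (by
    change (a : G) * ((x * y : W) : G) * (a : G)⁻¹ = (a : G) * x * (a : G)⁻¹ * ((a : G) * y * (a : G)⁻¹)
    simp [mul_assoc])

theorem coe_smul {C W : Subgroup G} (h : C ≤ normalizer (W : Set G)) (c : C) (w : W) :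
    letI := act h
    ((c • w : W) : G) = (c : G) * w * (c : G)⁻¹ := rfl

end Inst

/-- `C_G(D)` -/
abbrev cc (D : Subgroup G) : Subgroup G := centralizer (D : Set G)

/-- `⟨V^{C_G(D)}⟩` -/
abbrev wd (V D : Subgroup G) : Subgroup G := cl V (centralizer (D : Set G))

/-- `W = ⟨V^{C_G(D)}⟩` is commutative -/
abbrev wgrp {S Z V D B : Subgroup G} (e : End S Z V D B) : CommGroup (wd V D) := Inst.grp e.WD_comm

/-- `C_G(D)` acts on `⟨V^{C_G(D)}⟩` -/
abbrev cact (V D : Subgroup G) : MulDistribMulAction (cc D) (wd V D) :=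
  Inst.act (le_normalizer_cl V (centralizer (D : Set G)))

/-- `⟨[w, T]⟩ ⊓ D` -/
def lw (T D : Subgroup G) (w : G) : Subgroup G := D ⊓ closure {d | InL T w d}

theorem mem_lw {T D : Subgroup G} (hT : T ≤ centralizer (D : Set G)) {w d : G}
    (hw : ∀ t ∈ T, t * w * t⁻¹ * w⁻¹ ∈ D) : d ∈ lw T D w ↔ InL T w d := by
  obtain ⟨L, hL, h⟩ := exists_L hT hw
  constructor
  · rintro ⟨-, h1⟩
    have h2 : closure {d | InL T w d} ≤ L := (closure_le _).2 fun x hx => (h x).2 hx
    exact (h d).1 (h2 h1)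
  · exact fun h1 => ⟨hL ((h d).2 h1), subset_closure h1⟩

section out

variable {S Z V D B lam T₀ : Subgroup G} {e : End S Z V D B} {v w : G}

/-- `v⁻¹ [c, v] v` in an abelian group -/
theorem comm_iff {c x : G} (hc : c ∈ centralizer (D : Set G)) (hx : x ∈ cl V (centralizer (D : Set G)))
    (e : End S Z V D B) : x⁻¹ * (c * x * c⁻¹) = c * x * c⁻¹ * x⁻¹ :=
  e.WD_comm _ (inv_mem hx) _ (cj_mem (le_normalizer_cl V _) hc hx)

/-- `{c ∈ C_G(D) | [c, v] ∈ D}` is the same for all good `v` -/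
theorem sv_eq [Finite G] (o : Out e lam T₀) (hv : v ∈ lam) (hvD : v ∉ D) (hw : w ∈ lam) (hwD : w ∉ D) :
    sv D v = sv D w := by
  rw [e.clo.c2 e.flag (o.good.leV hv) (o.good.comm v hv), e.clo.c2 e.flag (o.good.leV hw) (o.good.comm w hw),
    plus_eq o.good hv hvD, plus_eq o.good hw hwD]

theorem lam_le_WD (o : Out e lam T₀) : lam ≤ cl V (centralizer (D : Set G)) := o.good.leV.trans (le_cl _ _)

/-- `C_G(D₊) T_D ≤ sv D v` acts on `v` as `T_D` -/
theorem inL_of_sv [Finite G] (o : Out e lam T₀) (hv : v ∈ lam) {c : G} (hc : c ∈ sv D v) :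
    InL (S ⊓ centralizer (D : Set G)) v (c * v * c⁻¹ * v⁻¹) := by
  have h1 := hc
  rw [e.clo.c2 e.flag (o.good.leV hv) (o.good.comm v hv)] at h1
  set T := S ⊓ centralizer (D : Set G) with hT
  set P := plus S V D v with hP
  have hPD : centralizer (P : Set G) ≤ centralizer (D : Set G) := by
    rw [e.clo.cent_plus e.flag (o.good.leV hv) (o.good.comm v hv)]
    exact cent_mono le_sup_left
  have hnorm : T ≤ normalizer ((centralizer (P : Set G) : Subgroup G) : Set G) := by
    rw [e.clo.cent_plus e.flag (o.good.leV hv) (o.good.comm v hv)]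
    exact norm_cent (norm_sup inf_le_right (o.good.comm v hv))
  have h2 : c ∈ ((centralizer (P : Set G) ⊔ T : Subgroup G) : Set G) := h1
  rw [Subgroup.coe_mul_of_right_le_normalizer_left _ _ hnorm] at h2
  obtain ⟨x, hx, t, ht, rfl⟩ := h2
  refine ⟨t, ht, ?_⟩
  have hx1 : x ∈ centralizer (P : Set G) := hx
  have hxD := hPD hx1
  rw [e.clo.cent_plus e.flag (o.good.leV hv) (o.good.comm v hv)] at hx1
  have hxv := (mem_cent_sup.1 hx1).2
  have h3 := mem_centralizer_iff.1 hxD _ (o.good.comm v hv t ht)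
  have e1 : x * t * v * (x * t)⁻¹ * v⁻¹ = (x * (t * v * t⁻¹ * v⁻¹)) * (v * x⁻¹ * v⁻¹) := by group
  have e2 : v * x⁻¹ * v⁻¹ = x⁻¹ := by
    have : v * x⁻¹ = x⁻¹ * v := by
      rw [eq_inv_mul_iff_mul_eq, ← mul_assoc, hxv, mul_assoc, mul_inv_cancel, mul_one]
    rw [this, mul_inv_cancel_right]
  rw [e1, e2, ← h3, mul_inv_cancel_right]

/-- **`Pnt`** -/
theorem pnt [Finite G] (o : Out e lam T₀) (hv : v ∈ lam) (hvD : v ∉ D) :
    letI := wgrp e
    letI := cact V D
    Pnt ((S ⊓ cc D).subgroupOf (cc D)) (D.subgroupOf (wd V D)) (lam.subgroupOf (wd V D))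
      ((sv D v).subgroupOf (cc D)) (B.subgroupOf (cc D)) ((e.E v).subgroupOf (cc D)) := by
  let _ := wgrp e
  let _ := cact V D
  have hsm : ∀ (c : cc D) (w : wd V D), ((c • w : wd V D) : G) = (c : G) * w * (c : G)⁻¹ := fun _ _ => rfl
  have hlW : lam ≤ wd V D := lam_le_WD o
  have hDW : D ≤ wd V D := e.D_le_WD
  have hBC : B ≤ cc D := e.B_cent
  have hTP : S ⊓ cc D ≤ sv D v := fun t ht => ⟨ht.2, o.good.comm v hv t ht⟩
  have hmem : ∀ (c : cc D) (w : wd V D), w⁻¹ * c • w ∈ D.subgroupOf (wd V D) ↔ (c : G) * w * (c : G)⁻¹ * (w : G)⁻¹ ∈ D := by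
    intro c w
    rw [mem_subgroupOf]
    change (w : G)⁻¹ * ((c : G) * w * (c : G)⁻¹) ∈ D ↔ _
    rw [comm_iff c.2 w.2 e]
  have hE : ∀ w : wd V D, w ∈ lam.subgroupOf (wd V D) → w ∉ D.subgroupOf (wd V D) →
      e.E v = e.E (w : G) := fun w h1 h2 =>
    o.eq v hv hvD w h1 h2
  have hcm : cm (D.subgroupOf (wd V D)) ((B.subgroupOf (cc D) : Subgroup (cc D)) : Set (cc D)) =
      e.CD.subgroupOf (wd V D) := by
    ext x
    rw [mem_cm, mem_subgroupOf, e.mem_CD]
    constructor
    · intro h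
      exact ⟨x.2, fun a ha => (hmem ⟨a, hBC ha⟩ x).1 (h ⟨a, hBC ha⟩ ha)⟩
    · rintro ⟨-, h⟩ a ha
      exact (hmem a x).2 (h a ha)
  exact
    { sq := fun w => Subtype.ext (e.flag.Wsq w (e.WD_le w.2))
      two := (e.flag.two.to_le inf_le_left).comap_subtype
      odd := e.clo.odd
      fixD := fun c d hd => Subtype.ext (by
        rw [hsm, ← mem_centralizer_iff.1 c.2 d hd, mul_inv_cancel_right])
      DΛ := fun x hx => o.good.Dle hx
      four := by
        rw [Nat.card_congr (subgroupOfEquivOfLe hDW).toEquiv, Nat.card_congr (subgroupOfEquivOfLe hlW).toEquiv]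
        exact o.good.four
      TP := fun x hx => hTP hx
      stab := fun w hw hwD c => by
        rw [hmem, mem_subgroupOf, sv_eq o hv hvD hw hwD, mem_sv]
        exact ⟨fun h => h.2, fun h => ⟨c.2, h⟩⟩
      BP := by
        have h1 : B ≤ o2 (sv D v) := by
          have h2 := e.le_Q (o.good.leV hv) hvD (o.good.comm v hv)
          rwa [← e.clo.c2 e.flag (o.good.leV hv) (o.good.comm v hv)] at h2
        have h2 : (o2 (sv D v)).subgroupOf (cc D) ≤ o2 ((sv D v).subgroupOf (cc D)) := by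
          refine le_o2 (isPGroup_o2 _).comap_subtype (fun x hx => o2_le (sv D v) hx) ?_
          refine norm_of fun a ha x hx => ?_
          exact cj_mem (le_normalizer_o2 (sv D v)) ha hx
        exact fun x hx => h2 (h1 hx)
      Bsq := fun b hb => Subtype.ext (e.Bsq b hb)
      EB := fun x hx => e.E_le_B hx
      mem_E := fun w hw hwD b hb => by
        have h0 : b ∈ (e.E v).subgroupOf (cc D) ↔ (b : G) ∈ e.E (w : G) := by
          rw [mem_subgroupOf, hE w hw hwD]
        have hwV : (w : G) ∈ V := o.good.leV hw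
        rw [h0, e.mem_E_iff hwV]
        constructor
        · rintro ⟨-, h⟩ c
          have h1 := (h c c.2).2
          have h2 := mem_centralizer_iff.1 c.2 _ h1
          rw [hmem, hsm]
          have e1 : (b : G) * ((c : G) * w * (c : G)⁻¹) * (b : G)⁻¹ * ((c : G) * w * (c : G)⁻¹)⁻¹ =
            c * ((c : G)⁻¹ * b * c * w * ((c : G)⁻¹ * b * c)⁻¹ * (w : G)⁻¹) * (c : G)⁻¹ := by group
          rw [e1, ← h2, mul_inv_cancel_right]
          exact h1
        · intro h
          refine ⟨hb, fun c hc => ⟨mul_mem (mul_mem (inv_mem hc) b.2) hc, ?_⟩⟩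
          have h1 := h ⟨c, hc⟩
          rw [hmem, hsm] at h1
          have h2 := mem_centralizer_iff.1 hc _ h1
          have e1 : c⁻¹ * (b : G) * c * w * (c⁻¹ * b * c)⁻¹ * (w : G)⁻¹ =
            c⁻¹ * ((b : G) * (c * w * c⁻¹) * (b : G)⁻¹ * (c * w * c⁻¹)⁻¹ * c) := by group
          rw [e1, h2, inv_mul_cancel_left]
          exact h1
      ex := fun w hw hwD => by
        have hwV : (w : G) ∈ V := o.good.leV hw
        rw [hcm]
        have h1 : (Wv D (w : G)).subgroupOf (wd V D) = D.subgroupOf (wd V D) ⊔ orb (⊤ : Subgroup (cc D)) w := by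
          apply le_antisymm
          · intro x hx
            have h2 : Wv D (w : G) ≤ (D.subgroupOf (wd V D) ⊔ orb (⊤ : Subgroup (cc D)) w).map (wd V D).subtype := by
              refine Wv_le (fun d hd => ⟨⟨d, hDW hd⟩, mem_sup_left hd, rfl⟩) fun c hc => ?_
              exact ⟨(⟨c, hc⟩ : cc D) • w, mem_sup_right (smul_mem_orb_self (mem_top _)), rfl⟩
            obtain ⟨y, hy, hxy⟩ := h2 hx
            have h3 : y = x := Subtype.ext hxy
            rwa [h3] at hy
          · refine sup_le (fun x hx => D_le_Wv hx) (orb_le fun c _ => ?_)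
            exact cj_mem_Wv c.2
        have h2 : (e.CD.subgroupOf (wd V D)).relIndex (orb (⊤ : Subgroup (cc D)) w) =
            (e.CD.subgroupOf (wd V D)).relIndex ((Wv D (w : G)).subgroupOf (wd V D)) := by
          have hD : D.subgroupOf (wd V D) ≤ e.CD.subgroupOf (wd V D) := by
            intro x hx
            refine ⟨x.2, fun a ha => ?_⟩
            have h3 : (x : G) * a = a * x := mem_centralizer_iff.1 (hBC ha) x hx
            have e1 : a * (x : G) * a⁻¹ * (x : G)⁻¹ = 1 := by rw [← h3]; group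
            have h4 : a * (x : G) * a⁻¹ * (x : G)⁻¹ ∈ D := by rw [e1]; exact one_mem _
            exact h4
          have hN : (e.CD.subgroupOf (wd V D)).Normal := ⟨fun n hn g => by
            have e1 : g * n * g⁻¹ = n := by rw [mul_comm g n, mul_inv_cancel_right]
            rwa [e1]⟩
          rw [h1]
          refine le_antisymm (rel_right le_sup_right _) ?_
          calc _ ≤ (e.CD.subgroupOf (wd V D)).relIndex (e.CD.subgroupOf (wd V D) ⊔ orb (⊤ : Subgroup (cc D)) w) :=
                rel_right (sup_le_sup_right hD _) _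
            _ = _ := relIndex_sup_left _ _
        have hwl : (w : G) ∈ lam := hw
        have hwd : (w : G) ∉ D := hwD
        have h5 : Wv D (w : G) ≤ wd V D := e.Wv_le_WD hwV
        rw [h2, relIndex_subgroupOf h5, relIndex_subgroupOf hBC, o.eq v hv hvD w hwl hwd,
          (o.ex w hwl hwd).exact]
        refine rel_congr ?_
        apply le_antisymm
        · rintro x ⟨hx, hxW⟩
          exact ⟨(o.ex w hw hwD).full x hxW hx.2, hxW⟩
        · rintro x ⟨hx, hxW⟩
          exact ⟨e.cent_le_CD ⟨e.Wv_le_WD hwV hxW, hx⟩, hxW⟩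
      lt := by
        rw [hcm, relIndex_subgroupOf hBC]
        exact o.lt v hv hvD }

/-- **`Lab`** -/
theorem lab [Finite G] (o : Out e lam T₀) (hs : FixS S Z V) (hv : v ∈ lam) (hvD : v ∉ D) :
    letI := wgrp e
    letI := cact V D
    Lab ((S ⊓ cc D).subgroupOf (cc D)) (D.subgroupOf (wd V D)) (lam.subgroupOf (wd V D))
      ((sv D v).subgroupOf (cc D)) (fun w => (lw (S ⊓ cc D) D (w : G)).subgroupOf (wd V D)) := by
  let _ := wgrp e
  let _ := cact V D
  exact
    { LD := fun w x hx => hx.1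
      lab := fun w hw hwD c hc => by
        rw [mem_subgroupOf]
        change (w : G)⁻¹ * ((c : G) * w * (c : G)⁻¹) ∈ _
        rw [comm_iff c.2 w.2 e, mem_lw inf_le_right (o.good.comm w hw)]
        refine inL_of_sv o hw ?_
        rw [sv_eq o hw hwD hv hvD]
        exact hc
      inf := fun d hd => Subtype.ext (o.good.inf d fun w hw hwD =>
        (mem_lw inf_le_right (o.good.comm w hw)).1 (hd ⟨w, lam_le_WD o hw⟩ hw hwD))
      tr := fun Y hY w hw y hy => by
        have hYC : Y.map (cc D).subtype ≤ cc D := map_subtype_le Y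
        have h1 : S ⊓ cc D ≤ normalizer ((Y.map (cc D).subtype : Subgroup G) : Set G) := by
          refine norm_of ?_
          rintro t ht _ ⟨y, hy, rfl⟩
          have h2 : (⟨t, ht.2⟩ : cc D) * y * (⟨t, ht.2⟩ : cc D)⁻¹ ∈ Y := cj_mem hY (a := (⟨t, ht.2⟩ : cc D)) ht hy
          exact ⟨_, h2, rfl⟩
        have h2 := e.clo.toRR.tr0 e.flag hs hYC h1 (w : G) (e.WD_le w.2) (by
          rintro t ⟨ht, y, hy, rfl⟩
          have h3 := congrArg (Subtype.val) (hw y ⟨ht, hy⟩)
          change (y : G) * (w : G) * (y : G)⁻¹ = w at h3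
          rwa [mul_inv_eq_iff_eq_mul] at h3) (y : G) ⟨y, hy, rfl⟩
        refine Subtype.ext ?_
        change (y : G) * (w : G) * (y : G)⁻¹ = w
        rw [h2, mul_inv_cancel_right] }

/-- a good `v` exists -/
theorem exists_good [Finite G] (o : Out e lam T₀) : ∃ v ∈ lam, v ∉ D := exists_of_good o.good

end out

end Cfsg.Agent.Omega.NO3b.ExEnd
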