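import Cfsg.Agent.Mrg.Omega.NO3b.EndX.Def
import Cfsg.Agent.Mrg.Omega.NO3b.ExEnd.Inst
import Cfsg.Agent.Mrg.Omega.NO3b.EndX.LemN
import Cfsg.Agent.Mrg.Omega.NO3b.Chain.Glue


/-!
# The exact end of NotFF at a closed point: P1 complete, the plugs

`Out e lam T₀` + the strong fix + (ML) + `C_G(D)` a K-group give helper768's `SecAt S V D lam`
(helper711's `Pnt.exists_end`, helper9's `pnt`, `lab`, and the transfer `exists_sec`).

* `secAt_of_out`;
* `out_false_of`, `out_false_ctx` : with `AbsP`: `False` (`C_G(Z)` a K-group, resp. `Ctx G`, `Z ≠ 1`);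
* `notFFP_of_absP` : **`Merge.NotFFP K`** (NO-3S) from (ML) and `AbsP`;
* `notFFG_of_absP` : `Merge.NotFFG K` (NO-3L) from (ML), `AbsP` and the base point.

Author: helper111.
-/

set_option autoImplicit false

namespace Cfsg.Agent.Omega.NO3b.ExEnd

open Subgroup Cfsg
open Cfsg.Agent.ZN (zc zl)
open Cfsg.Agent.Omega.MinPar Cfsg.Agent.Omega.Frame
open Cfsg.Agent.Omega.NO3b.EZero (cl)
open Cfsg.Agent.Omega.NO3b.ClosedPt (Flag End Out FixS kgroup_cent)
open Cfsg.Agent.Omega.NO3b.EndX (AbsP SecAt)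
open Cfsg.Agent.Omega.NOThreeL.Merge (HypG NotFFP NotFFG)
open Cfsg.Agent.Omega.ML.Final (MLK)

universe u

variable {G : Type u} [Group G] [Finite G]

/-- **`SecAt` from `Out`.** -/
theorem secAt_of_out (ml : MLK.{u, u}) {S Z V D B lam T₀ : Subgroup G} (hK : IsKGroup (centralizer (D : Set G)))
    (e : End S Z V D B) (hs : FixS S Z V) (o : Out e lam T₀) : SecAt S V D lam := by
  obtain ⟨v, hv, hvD⟩ := exists_good o
  have h1 := pnt o hv hvD
  have h2 := lab o hs hv hvD
  let _ := wgrp e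
  let _ := cact V D
  have h3 := h1.exists_end ml hK h2
  have h4 := exists_sec (CG := cc D) (WG := wd V D) (T := S ⊓ cc D) (D := D) (lam := lam)
    (fun c w => Inst.coe_smul _ c w) inf_le_right le_rfl e.D_le_WD (lam_le_WD o) h3
  obtain ⟨X, U, H, iG, iF, M, iM, iFM, iA, π, p, B', Y, a, b, c, d, f⟩ := h4
  exact ⟨X, U, H, iG, iF, M, iM, iFM, iA, π, p, B', Y, a, b, c, d, f⟩

/-- **The exact end is impossible** (`C_G(Z)` a K-group). -/
theorem out_false_of (ml : MLK.{u, u}) (h : AbsP.{u, u}) {S Z V D B lam T₀ : Subgroup G}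
    (hK : IsKGroup (centralizer (Z : Set G))) (e : End S Z V D B) (hs : FixS S Z V) (o : Out e lam T₀) : False :=
  EndX.out_false e o hs h (secAt_of_out ml (kgroup_cent e.clo.CD_le hK) e hs o)

/-- **The exact end is impossible** (`G` as in the context). -/
theorem out_false_ctx (hG : Ctx G) (ml : MLK.{u, u}) (h : AbsP.{u, u}) {S Z V D B lam T₀ : Subgroup G}
    (hZ : Z ≠ ⊥) (e : End S Z V D B) (hs : FixS S Z V) (o : Out e lam T₀) : False :=
  out_false_of ml h (Chain.kgroup_centralizer hG hZ) e hs o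

/-- one member of `P*(S)` -/
theorem hypG_false (ml : MLK.{u, u}) (h : AbsP.{u, u}) {S : Sylow 2 G} {P : Subgroup G} (hyp : HypG S P)
    (hP : IsParS (S : Subgroup G) P) : False := by
  obtain ⟨L, d, D, B, e, lam, T₀, o⟩ := Chain.exists_endG ml hyp hP
  exact out_false_ctx hyp.ctx ml h d.ne e (EndX.fixS e.flag) o

variable {K : Cls.{u}}

/-- **`Merge.NotFFP K`** (what NO-3S uses) from (ML) and `AbsP`. -/
theorem notFFP_of_absP (ml : MLK.{u, u}) (h : AbsP.{u, u}) : NotFFP K :=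
  fun _ _ _ _ _ _ hyp hP => (hypG_false ml h hyp hP).elim

/-- a base flag is impossible -/
theorem baseFlag_false (hG : Ctx G) (ml : MLK.{u, u}) (h : AbsP.{u, u}) {S Z V Lam : Subgroup G}
    (f : BasePt.BaseFlag S Z V Lam) : False := by
  obtain ⟨D, B, e, lam, T₀, o⟩ := f.geo.exists_out ml (Chain.kgroup_centralizer hG f.geo.ne) f.good
  exact out_false_ctx hG ml h f.geo.ne e f.fixS o

/-- **`Merge.NotFFG K`** (NO-3L) from (ML), `AbsP` and the base point. -/
theorem notFFG_of_absP (ml : MLK.{u, u}) (h : AbsP.{u, u}) (hB : BasePt.BasePoint.{u}) : NotFFG K :=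
  NOThreeL.HypGFrame.notFFG_of fun G _ _ _ S M hM r B hLoc => by
    obtain ⟨S₁, Z₁, V₁, Lam, f⟩ := hB G S M B hM r hLoc
    exact (baseFlag_false hM.ctx ml h f).elim

end Cfsg.Agent.Omega.NO3b.ExEnd
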